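import Mathlib
import Cfsg.Agent.LocalB.SixtyFourModels

/-!
The automorphism group of a Sylow 2-subgroup of `PSU₃(4)` has no subgroup `S₃`: the linear maps
preserving the squaring map on the Frattini quotient form a group of order 60 without one.
-/

set_option autoImplicit false
set_option linter.style.haveILetI false

namespace CfsgLib.SylowU34

open CfsgLib.SixtyFour

/-- Coordinates modulo the centre. -/
def proj : Vec → ℕ
  | (i, j, k, l, _, _) =>
    (cond i 1 0) ^^^ (cond j 2 0) ^^^ (cond k 4 0) ^^^ (cond l 8 0)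

/-- Coordinates in the centre. -/
def zed : Vec → ℕ
  | (_, _, _, _, m, n) => (cond m 1 0) ^^^ (cond n 2 0)

/-- The central vector with given coordinates. -/
def cvec (z : ℕ) : Vec := (false, false, false, false, z % 2 == 1, z / 2 % 2 == 1)

/-- A vector above a coordinate. -/
def lift (x : ℕ) : Vec := (x % 2 == 1, x / 2 % 2 == 1, x / 4 % 2 == 1, x / 8 % 2 == 1, false, false)

/-- Apply a step when the flag is set. -/
def st (f : Fin 6) (t : Bool) (v : Vec) : Vec := cond t (step false f v) v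

/-- The product of exponent vectors. -/
def mulV (v : Vec) : Vec → Vec
  | (i, j, k, l, m, n) => st 5 n (st 4 m (st 3 l (st 2 k (st 1 j (st 0 i v)))))

/-- The squaring map. -/
def sq (x : ℕ) : ℕ := (1769470692 >>> (2 * x)) &&& 3

/-- The linear map with given images. -/
def app (e : ℕ × ℕ × ℕ × ℕ) (x : ℕ) : ℕ :=
  (cond (x % 2 == 1) e.1 0) ^^^ (cond (x / 2 % 2 == 1) e.2.1 0) ^^^
    (cond (x / 4 % 2 == 1) e.2.2.1 0) ^^^ (cond (x / 8 % 2 == 1) e.2.2.2 0)

/-- A value of a map on the centre. -/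
def bb (b1 b2 z : ℕ) : ℕ := (cond (z % 2 == 1) b1 0) ^^^ (cond (z / 2 % 2 == 1) b2 0)

def fib (z : ℕ) : List ℕ := (List.range 16).filter fun y => sq y == z

def stabList : List (ℕ × ℕ × ℕ × ℕ) :=
  [(1, 2, 4, 8), (1, 2, 5, 10), (9, 14, 4, 8), (9, 14, 13, 6), (11, 13, 5, 10), (11, 13, 14, 7), (12, 4, 2, 3), (12, 4, 14, 7), (15, 5, 2, 3), (15, 5, 13, 6), (1, 3, 6, 13), (1, 3, 7, 14), (9, 7, 3, 2), (9, 7, 10, 5), (11, 6, 3, 2), (11, 6, 8, 4), (12, 8, 6, 13), (12, 8, 10, 5), (15, 10, 7, 14), (15, 10, 8, 4), (2, 1, 9, 7), (2, 1, 11, 6), (4, 12, 11, 6), (4, 12, 15, 10), (5, 15, 9, 7), (5, 15, 12, 8), (13, 11, 1, 3), (13, 11, 12, 8), (14, 9, 1, 3), (14, 9, 15, 10), (2, 3, 8, 12), (2, 3, 10, 15), (4, 8, 3, 1), (4, 8, 7, 9), (5, 10, 3, 1), (5, 10, 6, 11), (13, 6, 7, 9), (13, 6, 10, 15), (14, 7, 6, 11), (14, 7, 8, 12), (3, 1, 12, 4), (3, 1, 15, 5), (6, 11, 9, 14), (6, 11, 15, 5), (7, 9, 11, 13), (7, 9, 12, 4), (8, 12, 1, 2), (8, 12, 9, 14), (10, 15, 1, 2), (10, 15,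 11, 13), (3, 2, 13, 11), (3, 2, 14, 9), (6, 13, 2, 1), (6, 13, 4, 12), (7, 14, 2, 1), (7, 14, 5, 15), (8, 4, 5, 15), (8, 4, 13, 11), (10, 5, 4, 12), (10, 5, 14, 9)]

def stabOK (b1 b2 : ℕ) : Bool :=
  (b1 == b2) || (fib (bb b1 b2 (sq 1))).all fun e1 => (fib (bb b1 b2 (sq 2))).all fun e2 =>
    (fib (bb b1 b2 (sq 4))).all fun e3 => (fib (bb b1 b2 (sq 8))).all fun e4 =>
      !((List.range 16).all fun x => sq (app (e1, e2, e3, e4) x) == bb b1 b2 (sq x)) ||
        stabList.contains (e1, e2, e3, e4)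

set_option maxRecDepth 100000 in
theorem stab_ok : ([1, 2, 3].all fun b1 => [1, 2, 3].all fun b2 => stabOK b1 b2) = true := by
  decide +kernel

set_option maxRecDepth 100000 in
theorem no_sym : (stabList.all fun a => stabList.all fun b =>
    !((List.range 16).all fun x => (app b (app b x) == x) && (app a (app a (app a x)) == x) &&
      (app b (app a (app b x)) == app a (app a x))) ||
      ((List.range 16).all fun x => app a x == x)) = true := by
  decide +kernel

set_option maxRecDepth 100000 in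
theorem proj_mul : ∀ v w : Vec, proj (mulV v w) = proj v ^^^ proj w := by decide +kernel

set_option maxRecDepth 100000 in
theorem mul_self_eq : ∀ v : Vec, mulV v v = cvec (sq (proj v)) := by decide +kernel

set_option maxRecDepth 100000 in
theorem central_iff : ∀ v : Vec, (∀ w : Vec, mulV v w = mulV w v) ↔ proj v = 0 := by decide +kernel

theorem cvec_mul' : ∀ a : Fin 4, ∀ b : Fin 4, mulV (cvec a) (cvec b) = cvec ((a : ℕ) ^^^ b) := by decide +kernel

theorem cvec_mul (a : ℕ) (ha : a < 4) (b : ℕ) (hb : b < 4) : mulV (cvec a) (cvec b) = cvec (a ^^^ b) :=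
  cvec_mul' ⟨a, ha⟩ ⟨b, hb⟩

theorem central_eq : ∀ v : Vec, proj v = 0 → v = cvec (zed v) := by decide +kernel

theorem zed_cvec : ∀ a, a < 4 → zed (cvec a) = a ∧ proj (cvec a) = 0 := by decide +kernel

theorem proj_lift : ∀ x, x < 16 → proj (lift x) = x := by decide +kernel

theorem proj_lt : ∀ v : Vec, proj v < 16 ∧ zed v < 4 ∧ sq (proj v) < 4 := by decide +kernel

theorem lift_fibre : ∀ v : Vec, ∃ z, z < 4 ∧ v = mulV (lift (proj v)) (cvec z) := by decide +kernel

theorem mem_of_valid {b1 b2 : ℕ} (h1 : b1 < 4) (h1' : b1 ≠ 0) (h2 : b2 < 4) (h2' : b2 ≠ 0) (hne : b1 ≠ b2)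
    {e : ℕ × ℕ × ℕ × ℕ} (h1e : e.1 < 16) (h2e : e.2.1 < 16) (h3e : e.2.2.1 < 16) (h4e : e.2.2.2 < 16)
    (hv : ∀ x, x < 16 → sq (app e x) = bb b1 b2 (sq x)) : e ∈ stabList := by
  obtain ⟨e1, e2, e3, e4⟩ := e
  have hb : stabOK b1 b2 = true := by
    have h := stab_ok
    simp only [List.all_eq_true] at h
    exact h b1 (by simp; omega) b2 (by simp; omega)
  simp only [stabOK, Bool.or_eq_true, beq_iff_eq, hne, false_or, List.all_eq_true] at hb
  have hf : ∀ y x, y < 16 → x < 16 → app (e1, e2, e3, e4) x = y → y ∈ fib (bb b1 b2 (sq x)) := by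
    intro y x hy hx he
    simp only [fib, List.mem_filter, List.mem_range, beq_iff_eq]
    exact ⟨hy, he ▸ hv x hx⟩
  have h := hb e1 (hf e1 1 h1e (by norm_num) (by simp [app])) e2 (hf e2 2 h2e (by norm_num) (by simp [app]))
    e3 (hf e3 4 h3e (by norm_num) (by simp [app])) e4 (hf e4 8 h4e (by norm_num) (by simp [app]))
  rcases h with h | h
  · rw [Bool.not_eq_true'] at h
    exfalso
    have h2 : ((List.range 16).all fun x => sq (app (e1, e2, e3, e4) x) == bb b1 b2 (sq x)) = true :=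
      List.all_eq_true.2 fun x hx => beq_iff_eq.2 (hv x (List.mem_range.1 hx))
    rw [h] at h2
    exact Bool.false_ne_true h2
  · exact List.contains_iff_mem.1 h

set_option maxRecDepth 100000 in
theorem xor_basis : ∀ x, x < 16 → x = app (1, 2, 4, 8) x := by decide +kernel

theorem app_xor_step : ∀ (F : ℕ → ℕ), (∀ a, a < 16 → ∀ b, b < 16 → F (a ^^^ b) = F a ^^^ F b) →
    ∀ x, x < 16 → F x = app (F 1, F 2, F 4, F 8) x := by
  intro F hF x hx
  have h0 : F 0 = 0 := by
    have := hF 0 (by norm_num) 0 (by norm_num)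
    simpa using this
  have key : ∀ (t : Bool) (c : ℕ), c < 16 → F (cond t c 0) = cond t (F c) 0 := by
    intro t c hc; cases t <;> simp [h0]
  have hlt : ∀ (t : Bool) (c : ℕ), c < 16 → cond t c 0 < 16 := by
    intro t c hc; cases t <;> simp [hc]
  have hx2 : ∀ {a b : ℕ}, a < 16 → b < 16 → a ^^^ b < 16 := fun ha hb => Nat.xor_lt_two_pow (n := 4) ha hb
  conv_lhs => rw [xor_basis x hx]
  simp only [app]
  rw [hF _ (hx2 (hx2 (hlt _ _ (by norm_num)) (hlt _ _ (by norm_num))) (hlt _ _ (by norm_num))) _ (hlt _ _ (by norm_num)),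
    hF _ (hx2 (hlt _ _ (by norm_num)) (hlt _ _ (by norm_num))) _ (hlt _ _ (by norm_num)),
    hF _ (hlt _ _ (by norm_num)) _ (hlt _ _ (by norm_num)),
    key _ _ (by norm_num), key _ _ (by norm_num), key _ _ (by norm_num), key _ _ (by norm_num)]

section

variable {S : Type*} [Group S] [Finite S] (R : Rel false S) (hR : Function.Injective R.word)

theorem word_mul (v w : Vec) : R.word (mulV v w) = R.word v * R.word w := by
  have h : ∀ (f : Fin 6) (t : Bool) (x : Vec), R.word (st f t x) = R.word x * pw (R.gen f) t := by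
    intro f t x
    cases t
    · simp [st, pw]
    · simp [st, pw, R.word_step]
  obtain ⟨i, j, k, l, m, n⟩ := w
  simp only [mulV, h]
  simp only [Rel.word, Rel.gen, mul_assoc]

include hR in
theorem word_bijective :
    Function.Bijective (fun v => (⟨R.word v, R.word_mem v⟩ : R.span)) :=
  ⟨fun v w h => hR (congrArg Subtype.val h), fun x => by
    obtain ⟨v, hv⟩ := R.exists_word x.2
    exact ⟨v, Subtype.ext hv⟩⟩

include hR in
theorem exists_matrix (φ : MulAut R.span) :
    ∃ e ∈ stabList, ∀ v w : Vec, φ ⟨R.word v, R.word_mem v⟩ = ⟨R.word w, R.word_mem w⟩ →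
      proj w = app e (proj v) := by
  classical
  let W : Vec ≃ R.span := Equiv.ofBijective _ (word_bijective R hR)
  have hW : ∀ v, (W v : S) = R.word v := fun v => rfl
  let F : Vec → Vec := fun v => W.symm (φ (W v))
  have hWmul : ∀ v w, W (mulV v w) = W v * W w := fun v w => Subtype.ext (word_mul R v w)
  have hF : ∀ v w, F (mulV v w) = mulV (F v) (F w) := fun v w => by
    apply W.injective
    simp only [F, hWmul, Equiv.apply_symm_apply, map_mul]
  have hFb : Function.Bijective F := W.symm.bijective.comp (φ.bijective.comp W.bijective)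
  have hFc : ∀ v, proj v = 0 → proj (F v) = 0 := fun v hv => (central_iff _).1 fun w => by
    obtain ⟨w, rfl⟩ := hFb.2 w
    rw [← hF, ← hF, (central_iff v).2 hv w]
  have hFc' : ∀ v, proj (F v) = 0 → proj v = 0 := fun v hv => (central_iff _).1 fun w => by
    apply hFb.1
    rw [hF, hF, (central_iff _).2 hv (F w)]
  let f : ℕ → ℕ := fun x => proj (F (lift x))
  have hf : ∀ v, proj (F v) = f (proj v) := fun v => by
    obtain ⟨z, hz, e⟩ := lift_fibre v
    conv_lhs => rw [e, hF, proj_mul, hFc _ (zed_cvec z hz).2, Nat.xor_zero]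
  have hfadd : ∀ a, a < 16 → ∀ b, b < 16 → f (a ^^^ b) = f a ^^^ f b := fun a ha b hb => by
    have h := hf (mulV (lift a) (lift b))
    rw [hF, proj_mul, proj_mul, proj_lift a ha, proj_lift b hb] at h
    exact h.symm
  let β : ℕ → ℕ := fun z => zed (F (cvec z))
  have hβ : ∀ z, z < 4 → F (cvec z) = cvec (β z) := fun z hz => central_eq _ (hFc _ (zed_cvec z hz).2)
  have hβlt : ∀ z, β z < 4 := fun z => (proj_lt _).2.1
  have hβadd : ∀ a, a < 4 → ∀ b, b < 4 → β (a ^^^ b) = β a ^^^ β b := fun a ha b hb => by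
    show zed (F (cvec (a ^^^ b))) = _
    rw [← cvec_mul a ha b hb, hF, hβ a ha, hβ b hb, cvec_mul _ (hβlt a) _ (hβlt b)]
    exact (zed_cvec _ (Nat.xor_lt_two_pow (n := 2) (hβlt a) (hβlt b))).1
  have hβinj : ∀ a, a < 4 → ∀ b, b < 4 → β a = β b → a = b := fun a ha b hb h => by
    have h1 : cvec a = cvec b := hFb.1 (by rw [hβ a ha, hβ b hb, h])
    rw [← (zed_cvec a ha).1, h1, (zed_cvec b hb).1]
  have hβ0 : β 0 = 0 := by
    have := hβadd 0 (by norm_num) 0 (by norm_num)
    simpa using this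
  have hβbb : ∀ z, z < 4 → β z = bb (β 1) (β 2) z := by
    intro z hz
    interval_cases z
    · simp [bb, hβ0]
    · simp [bb]
    · simp [bb]
    · rw [show (3 : ℕ) = 1 ^^^ 2 from rfl, hβadd 1 (by norm_num) 2 (by norm_num)]; simp [bb]
  have hsq : ∀ x, x < 16 → sq (app (f 1, f 2, f 4, f 8) x) = bb (β 1) (β 2) (sq x) := fun x hx => by
    have hlx : sq x < 4 := by have := (proj_lt (lift x)).2.2; rwa [proj_lift x hx] at this
    have h := congrArg F (mul_self_eq (lift x))
    rw [hF, mul_self_eq, proj_lift x hx, hβ _ hlx] at h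
    have h2 := congrArg zed h
    rw [(zed_cvec _ (proj_lt _).2.2).1, (zed_cvec _ (hβlt _)).1, hf, proj_lift x hx,
      app_xor_step f hfadd x hx, hβbb _ hlx] at h2
    exact h2
  refine ⟨(f 1, f 2, f 4, f 8), mem_of_valid (hβlt 1) (fun h => ?_) (hβlt 2) (fun h => ?_) (fun h => ?_)
    (proj_lt _).1 (proj_lt _).1 (proj_lt _).1 (proj_lt _).1 hsq, fun v w hvw => ?_⟩
  · exact one_ne_zero (hβinj 1 (by norm_num) 0 (by norm_num) (h.trans hβ0.symm))
  · exact two_ne_zero (hβinj 2 (by norm_num) 0 (by norm_num) (h.trans hβ0.symm))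
  · exact absurd (hβinj 1 (by norm_num) 2 (by norm_num) h) (by norm_num)
  · have hw : F v = w := by
      apply W.injective
      simp only [F, Equiv.apply_symm_apply]
      exact hvw
    rw [← hw, hf, app_xor_step f hfadd _ (proj_lt v).1]

include hR in
theorem not_sym (r s : MulAut R.span) (hr : r ^ 3 = 1) (hs : s * s = 1) (hsrs : s * r * s = r * r) : r = 1 := by
  classical
  obtain ⟨a, ha, hA⟩ := exists_matrix R hR r
  obtain ⟨b, hb, hB⟩ := exists_matrix R hR s
  let W : Vec ≃ R.span := Equiv.ofBijective _ (word_bijective R hR)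
  have hA' : ∀ x, proj (W.symm (r x)) = app a (proj (W.symm x)) := fun x =>
    hA _ _ (show r (W (W.symm x)) = W (W.symm (r x)) by rw [W.apply_symm_apply, W.apply_symm_apply])
  have hB' : ∀ x, proj (W.symm (s x)) = app b (proj (W.symm x)) := fun x =>
    hB _ _ (show s (W (W.symm x)) = W (W.symm (s x)) by rw [W.apply_symm_apply, W.apply_symm_apply])
  have hfix : ∀ x, x < 16 → app a x = x := by
    have h := no_sym
    simp only [List.all_eq_true, Bool.or_eq_true] at h
    rcases h a ha b hb with h | h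
    · exfalso
      rw [Bool.not_eq_true'] at h
      have h2 : ((List.range 16).all fun x => (app b (app b x) == x) && (app a (app a (app a x)) == x) &&
          (app b (app a (app b x)) == app a (app a x))) = true := by
        refine List.all_eq_true.2 fun x hx => ?_
        obtain ⟨g, rfl⟩ : ∃ g, proj (W.symm g) = x :=
          ⟨W (lift x), by rw [W.symm_apply_apply, proj_lift x (List.mem_range.1 hx)]⟩
        simp only [Bool.and_eq_true, beq_iff_eq, ← hA', ← hB']
        refine ⟨⟨?_, ?_⟩, ?_⟩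
        · rw [← MulAut.mul_apply, hs]; rfl
        · rw [← MulAut.mul_apply, ← MulAut.mul_apply, ← pow_three', hr]; rfl
        · rw [← MulAut.mul_apply, ← MulAut.mul_apply, hsrs]; rfl
      rw [h] at h2
      exact Bool.false_ne_true h2
    · exact fun x hx => beq_iff_eq.1 (h x (List.mem_range.2 hx))
  have hmulW : ∀ v w, W (mulV v w) = W v * W w := fun v w => Subtype.ext (word_mul R v w)
  -- `r` fixes every element modulo the centre
  have hfac : ∀ g, ∃ z, z < 4 ∧ r g = g * W (cvec z) := fun g => by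
    obtain ⟨z1, hz1, e1⟩ := lift_fibre (W.symm g)
    obtain ⟨z2, hz2, e2⟩ := lift_fibre (W.symm (r g))
    rw [hA', hfix _ (proj_lt _).1] at e2
    refine ⟨z1 ^^^ z2, Nat.xor_lt_two_pow (n := 2) hz1 hz2, ?_⟩
    have hg : g = W (lift (proj (W.symm g))) * W (cvec z1) := by
      rw [← hmulW, ← e1, W.apply_symm_apply]
    have hrg : r g = W (lift (proj (W.symm g))) * W (cvec z2) := by
      rw [← hmulW, ← e2, W.apply_symm_apply]
    rw [hrg]
    conv_rhs => arg 1; rw [hg]
    rw [mul_assoc, ← hmulW (cvec z1) (cvec (z1 ^^^ z2)), cvec_mul _ hz1 _ (Nat.xor_lt_two_pow (n := 2) hz1 hz2),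
      ← Nat.xor_assoc, Nat.xor_self, Nat.zero_xor]
  have hcz : ∀ z, z < 4 → ∀ g, Commute g (W (cvec z)) := fun z hz g => by
    have h := (central_iff _).2 (zed_cvec z hz).2 (W.symm g)
    have h2 := congrArg W h
    rw [hmulW, hmulW, W.apply_symm_apply] at h2
    exact h2.symm
  have hz2 : ∀ z, z < 4 → W (cvec z) * W (cvec z) = 1 := fun z hz => by
    rw [← hmulW, cvec_mul z hz z hz, Nat.xor_self]
    exact Subtype.ext (R.word_one)
  have hsqfix : ∀ g, r (g * g) = g * g := fun g => by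
    obtain ⟨z, hz, e⟩ := hfac g
    rw [map_mul, e, mul_assoc g, ← mul_assoc (W (cvec z)), ← (hcz z hz g).eq, mul_assoc g, hz2 z hz, mul_one]
  have hcfix : ∀ z, z < 4 → r (W (cvec z)) = W (cvec z) := by
    have hcase : ∀ z, z < 4 → ∃ x, x < 16 ∧ sq x = z := by decide +kernel
    intro z hz
    obtain ⟨x, hx, rfl⟩ := hcase z hz
    have h : W (lift x) * W (lift x) = W (cvec (sq x)) := by rw [← hmulW, mul_self_eq, proj_lift x hx]
    rw [← h]
    exact hsqfix _
  have h2 : r * r = 1 := by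
    refine MulEquiv.ext fun g => ?_
    obtain ⟨z, hz, e⟩ := hfac g
    rw [MulAut.mul_apply, e, map_mul, e, hcfix z hz, mul_assoc, hz2 z hz, mul_one]
    rfl
  rwa [pow_three', h2, one_mul] at hr

end

theorem main {T : Type*} [Group T] [Finite T]
    (hT : ∃ (F : Type) (_ : Field F) (_ : Fintype F), Fintype.card F = 16 ∧ ∃ S : Sylow 2 (Cfsg.PSU 3 F 4),
      Nonempty (T ≃* ↥(S : Subgroup (Cfsg.PSU 3 F 4))))
    (H : Subgroup (MulAut T)) : ¬ Nonempty (H ≃* Equiv.Perm (Fin 3)) := by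
  classical
  rintro ⟨h⟩
  obtain ⟨F, _, _, hF, P, ⟨e⟩⟩ := hT
  haveI : Fact (Nat.Prime 2) := ⟨Nat.prime_two⟩
  haveI : CharP F 2 := by
    obtain ⟨n, hp, hn⟩ := FiniteField.card F (ringChar F)
    have h2 : ringChar F = 2 := by
      have h16 : ringChar F ∣ 2 ^ 4 := by
        rw [show (2 : ℕ) ^ 4 = ringChar F ^ (n : ℕ) by rw [← hn, hF]; norm_num]
        exact dvd_pow_self _ n.ne_zero
      exact (Nat.prime_dvd_prime_iff_eq hp Nat.prime_two).1 (hp.dvd_of_dvd_pow h16)
    exact h2 ▸ ringChar.charP F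
  obtain ⟨R, hR⟩ := exists_rel_psu hF
  have hfac : (Nat.card (Cfsg.PSU 3 F 4)).factorization 2 = 6 := by
    rw [card_psu_three_four hF, show 64 = 2 ^ 6 by norm_num, Nat.factorization_mul (by norm_num) (by norm_num),
      Finsupp.add_apply, Nat.Prime.factorization_pow Nat.prime_two, Finsupp.single_eq_same,
      Nat.factorization_eq_zero_of_not_dvd (show ¬ 2 ∣ 975 by norm_num)]
  let P0 : Sylow 2 (Cfsg.PSU 3 F 4) := Sylow.ofCard R.span (by rw [R.card_span hR, hfac]; norm_num)
  let c : MulAut T ≃* MulAut R.span := MulAut.congr (e.trans (P.equiv P0))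
  have hrel : (Equiv.swap (0 : Fin 3) 1 * Equiv.swap 1 2) ^ 3 = 1 ∧
      Equiv.swap (0 : Fin 3) 1 * Equiv.swap 0 1 = 1 ∧
      Equiv.swap (0 : Fin 3) 1 * (Equiv.swap 0 1 * Equiv.swap 1 2) * Equiv.swap 0 1 =
        (Equiv.swap 0 1 * Equiv.swap 1 2) * (Equiv.swap 0 1 * Equiv.swap 1 2) ∧
      Equiv.swap (0 : Fin 3) 1 * Equiv.swap 1 2 ≠ 1 := by decide
  let ψ : Equiv.Perm (Fin 3) →* MulAut R.span := c.toMonoidHom.comp (H.subtype.comp h.symm.toMonoidHom)
  have hψ : Function.Injective ψ := c.injective.comp (Subtype.val_injective.comp h.symm.injective)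
  refine hrel.2.2.2 (hψ ?_)
  rw [map_one]
  refine not_sym R hR _ (ψ (Equiv.swap 0 1)) ?_ ?_ ?_
  · rw [← map_pow, hrel.1, map_one]
  · rw [← map_mul, hrel.2.1, map_one]
  · rw [← map_mul ψ, ← map_mul ψ, ← map_mul ψ, hrel.2.2.1]

end CfsgLib.SylowU34
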